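import Cfsg.Agent.SporB.ON.Sub.J1.Data

set_option autoImplicit false
set_option maxRecDepth 100000

namespace Cfsg.Agent.CosetEnum.ON.Sub.J1

theorem ok8 : sylowOK X P8 C8 = true := by decide +kernel

theorem ok3 : sylowOK X P3 C3 = true := by decide +kernel

theorem ok5 : sylowOK X P5 C5 = true := by decide +kernel

theorem ok7 : sylowOK X P7 C7 = true := by decide +kernel

theorem ok11 : sylowOK X P11 C11 = true := by decide +kernel

theorem ok19 : sylowOK X P19 C19 = true := by decide +kernel

end Cfsg.Agent.CosetEnum.ON.Sub.J1
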