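import Cfsg.Agent.SporB.ON.Sub.J1.Data

set_option autoImplicit false
set_option maxRecDepth 100000

namespace Cfsg.Agent.CosetEnum.ON.Sub.J1

theorem tr_0 : allRange (checkCoset X R Lk tr) 0 34 = true := by decide +kernel

theorem tr_34 : allRange (checkCoset X R Lk tr) 34 34 = true := by decide +kernel

theorem tr_68 : allRange (checkCoset X R Lk tr) 68 34 = true := by decide +kernel

theorem tr_102 : allRange (checkCoset X R Lk tr) 102 34 = true := by decide +kernel

theorem tr_136 : allRange (checkCoset X R Lk tr) 136 34 = true := by decide +kernel

theorem tr_170 : allRange (checkCoset X R Lk tr) 170 34 = true := by decide +kernel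

theorem tr_204 : allRange (checkCoset X R Lk tr) 204 34 = true := by decide +kernel

theorem tr_238 : allRange (checkCoset X R Lk tr) 238 28 = true := by decide +kernel

theorem tr_all : ∀ i, i < R.length → checkCoset X R Lk tr i = true := by
  intro i hi
  have hn : R.length = 266 := by decide +kernel
  rcases Nat.lt_or_ge i 34 with h | h
  · exact allRange_spec tr_0 i (by omega) (by omega)
  rcases Nat.lt_or_ge i 68 with h | h
  · exact allRange_spec tr_34 i (by omega) (by omega)
  rcases Nat.lt_or_ge i 102 with h | h
  · exact allRange_spec tr_68 i (by omega) (by omega)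
  rcases Nat.lt_or_ge i 136 with h | h
  · exact allRange_spec tr_102 i (by omega) (by omega)
  rcases Nat.lt_or_ge i 170 with h | h
  · exact allRange_spec tr_136 i (by omega) (by omega)
  rcases Nat.lt_or_ge i 204 with h | h
  · exact allRange_spec tr_170 i (by omega) (by omega)
  rcases Nat.lt_or_ge i 238 with h | h
  · exact allRange_spec tr_204 i (by omega) (by omega)
  exact allRange_spec tr_238 i (by omega) (by omega)

end Cfsg.Agent.CosetEnum.ON.Sub.J1
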