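import Cfsg.Agent.SporB.ON.Sub.J1.Data

set_option autoImplicit false
set_option maxRecDepth 100000

namespace Cfsg.Agent.CosetEnum.ON.Sub.J1

theorem L_closed : closedT (Lg.map (ex X)) Lk ltab = true := by decide +kernel

theorem L_tree : treeOK (Lg.map (ex X)) Lk ltab par = true := by decide +kernel

end Cfsg.Agent.CosetEnum.ON.Sub.J1
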